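import Mathlib.FieldTheory.Finite.Basic
import Mathlib.RingTheory.LittleWedderburn
import Mathlib.RingTheory.Artinian.Module
import Mathlib.RingTheory.TensorProduct.Maps
import Mathlib.FieldTheory.Galois.Basic
import Mathlib.LinearAlgebra.TensorProduct.Basis
import Mathlib.FieldTheory.Fixed
import Mathlib.RingTheory.Idempotents
import Mathlib.LinearAlgebra.Dimension.Constructions

/-!
# Local finite algebras over finite fields and the splitting of a Galois algebra
-/

set_option autoImplicit false
set_option linter.style.haveILetI false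

universe u

open TensorProduct

namespace Groth.Agent.GaloisSplit17

section localRing

variable {R : Type u} [Ring R] [Nontrivial R]

theorem not_isNilpotent_of_mul_eq_one {x y : R} (h : y * x = 1) : ¬ IsNilpotent x := by
  rintro ⟨n, hn⟩
  induction n with
  | zero => exact one_ne_zero ((pow_zero x).symm.trans hn)
  | succ n ih =>
    refine ih ?_
    calc x ^ n = y * x * x ^ n := by rw [h, one_mul]
      _ = 0 := by rw [mul_assoc, ← pow_succ', hn, mul_zero]

theorem not_isNilpotent_of_mul_eq_one' {x y : R} (h : x * y = 1) : ¬ IsNilpotent x := by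
  rintro ⟨n, hn⟩
  induction n with
  | zero => exact one_ne_zero ((pow_zero x).symm.trans hn)
  | succ n ih =>
    refine ih ?_
    calc x ^ n = x ^ n * (x * y) := by rw [h, mul_one]
      _ = 0 := by rw [← mul_assoc, ← pow_succ, hn, zero_mul]

variable (h : ∀ x : R, IsUnit x ∨ IsNilpotent x)
include h

/-- The nilpotent elements. -/
def nilIdeal : Ideal R where
  carrier := {x | IsNilpotent x}
  zero_mem' := IsNilpotent.zero
  add_mem' {x y} hx hy := (h (x + y)).resolve_left fun hu => by
    obtain ⟨u, hu⟩ := hu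
    have hz : IsNilpotent (↑u⁻¹ * x : R) := (h _).resolve_left fun ⟨w, hw⟩ =>
      not_isNilpotent_of_mul_eq_one (y := (↑w⁻¹ * ↑u⁻¹ : R)) (by rw [mul_assoc, ← hw, Units.inv_mul]) hx
    have hsum : (↑u⁻¹ * x : R) + ↑u⁻¹ * y = 1 := by rw [← mul_add, ← hu, Units.inv_mul]
    obtain ⟨w, hw⟩ := hz.isUnit_one_sub
    refine not_isNilpotent_of_mul_eq_one (y := (↑w⁻¹ * ↑u⁻¹ : R)) ?_ hy
    rw [mul_assoc, eq_sub_of_add_eq' hsum, ← hw]
    exact Units.inv_mul w
  smul_mem' r x hx := (h (r * x)).resolve_left fun ⟨w, hw⟩ =>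
    not_isNilpotent_of_mul_eq_one (y := ↑w⁻¹ * r) (by rw [mul_assoc, ← hw, Units.inv_mul]) hx

theorem isTwoSided_nilIdeal : (nilIdeal h).IsTwoSided :=
  ⟨fun {x} r hx => (h (x * r)).resolve_left fun ⟨w, hw⟩ =>
    not_isNilpotent_of_mul_eq_one' (y := r * ↑w⁻¹) (by rw [← mul_assoc, ← hw, Units.mul_inv]) hx⟩

end localRing

section residue

variable (k : Type u) [Field k] [Finite k] {R : Type u} [Ring R] [Nontrivial R] [Algebra k R] [Module.Finite k R]

/-- A finite local algebra over a finite field retracts onto its residue field. -/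
theorem exists_residue (h : ∀ x : R, IsUnit x ∨ IsNilpotent x) :
    ∃ (L : Type u) (_ : Field L) (_ : Algebra k L) (ι : L →ₐ[k] R) (χ : R →ₐ[k] L),
      (∀ x, χ (ι x) = x) ∧ ∀ x, χ x = 0 → IsNilpotent x := by
  classical
  haveI : (nilIdeal h).IsTwoSided := isTwoSided_nilIdeal h
  haveI : Finite R := Module.finite_of_finite k
  let L := R ⧸ nilIdeal h
  let χ : R →ₐ[k] L := Ideal.Quotient.mkₐ k _
  haveI : Finite L := Finite.of_surjective χ Ideal.Quotient.mk_surjective
  have hker : ∀ x, χ x = 0 → IsNilpotent x := fun x hx => Ideal.Quotient.eq_zero_iff_mem.1 hx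
  have hu : ∀ a : L, IsUnit a ∨ a = 0 := fun a => by
    obtain ⟨r, rfl⟩ := Ideal.Quotient.mk_surjective a
    rcases h r with hr | hr
    · exact Or.inl (hr.map _)
    · exact Or.inr (Ideal.Quotient.eq_zero_iff_mem.2 hr)
  haveI : Nontrivial L := ⟨⟨0, 1, fun h01 => by
    obtain ⟨n, hn⟩ := hker 1 ((map_one χ).trans h01.symm)
    exact one_ne_zero ((one_pow n).symm.trans hn)⟩⟩
  letI : DivisionRing L := DivisionRing.ofIsUnitOrEqZero hu
  letI : Field L := littleWedderburn L
  letI : Fintype L := Fintype.ofFinite L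
  letI : Fintype k := Fintype.ofFinite k
  obtain ⟨p, hp⟩ := CharP.exists k
  haveI : Fact p.Prime := ⟨CharP.char_is_prime k p⟩
  haveI : CharP R p := charP_of_injective_algebraMap (algebraMap k R).injective p
  haveI : CharP L p := charP_of_injective_algebraMap (algebraMap k L).injective p
  obtain ⟨⟨e, he⟩, -, hcard⟩ := FiniteField.card L p
  obtain ⟨g, hg⟩ := IsCyclic.exists_generator (α := Lˣ)
  obtain ⟨v, hv⟩ := Ideal.Quotient.mk_surjective (g : L)
  have hv' : χ v = g := hv
  obtain ⟨n, hn⟩ : IsNilpotent (v ^ p ^ e - v) := hker _ (by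
    rw [map_sub, map_pow, hv', show p ^ e = Fintype.card L from hcard.symm, FiniteField.pow_card, sub_self])
  let M := p ^ (e * n)
  have hnM : n ≤ M := by
    refine le_trans ?_ (Nat.lt_pow_self (Fact.out : p.Prime).one_lt).le
    exact Nat.le_mul_of_pos_left n he
  have hw : (v ^ M) ^ p ^ e = v ^ M := by
    have h0 : (v ^ p ^ e - v) ^ M = 0 := pow_eq_zero_of_le hnM hn
    rw [sub_pow_expChar_pow_of_commute (R := R) (p := p) (n := e * n) (Commute.pow_self v _)] at h0
    rw [← pow_mul, mul_comm, pow_mul]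
    exact sub_eq_zero.1 h0
  let φ : Polynomial k →ₐ[k] R := Polynomial.aeval (v ^ M)
  have hfix : ∀ f : Polynomial k, φ f ^ p ^ e = φ f := fun f => by
    rw [← map_pow]
    induction f using Polynomial.induction_on' with
    | add a b ha hb => rw [add_pow_expChar_pow, map_add, ha, hb, map_add]
    | monomial i c =>
      rw [← Polynomial.C_mul_X_pow_eq_monomial, mul_pow, map_mul, ← map_pow Polynomial.C, ← pow_mul, mul_comm i,
        pow_mul]
      have hc : c ^ p ^ e = c := (algebraMap k L).injective (by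
        rw [map_pow, show p ^ e = Fintype.card L from hcard.symm, FiniteField.pow_card])
      rw [hc, map_pow, map_mul, map_pow, map_pow]
      simp only [φ, Polynomial.aeval_X, hw]
  have hbij : Function.Bijective (χ.comp φ.range.val) := by
    refine ⟨(injective_iff_map_eq_zero _).2 fun x hx => ?_, fun y => ?_⟩
    · obtain ⟨⟨_, f, rfl⟩, hf⟩ : ∃ y, y = x := ⟨x, rfl⟩
      obtain ⟨m, hm⟩ := hker (x : R) hx
      refine Subtype.ext ?_
      have hx' : (x : R) ^ p ^ e = x := by rw [← hf]; exact hfix f
      have hit : ∀ j, (x : R) ^ (p ^ e) ^ j = x := fun j => by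
        induction j with
        | zero => simp
        | succ j ih => rw [pow_succ, pow_mul, ih, hx']
      rw [← hit m]
      exact pow_eq_zero_of_le (Nat.lt_pow_self (Nat.one_lt_pow he.ne' (Fact.out : p.Prime).one_lt)).le hm
    · have hgen : χ.comp φ.range.val ⟨φ Polynomial.X, Polynomial.X, rfl⟩ = g := by
        show χ (φ Polynomial.X) = g
        simp only [φ, Polynomial.aeval_X, map_pow, hv', M]
        rw [pow_mul, show p ^ e = Fintype.card L from hcard.symm, FiniteField.pow_card_pow]
      rcases eq_or_ne y 0 with rfl | hy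
      · exact ⟨0, map_zero _⟩
      · obtain ⟨j, hj⟩ := (Submonoid.mem_powers_iff _ _).1 (mem_powers_iff_mem_zpowers.2 (hg (Units.mk0 y hy)))
        exact ⟨⟨φ Polynomial.X, Polynomial.X, rfl⟩ ^ j, by
          rw [map_pow, hgen, ← Units.val_pow_eq_pow_val, hj]; rfl⟩
  let E := AlgEquiv.ofBijective (χ.comp φ.range.val) hbij
  exact ⟨L, inferInstance, inferInstance, φ.range.val.comp E.symm.toAlgHom, χ, fun x => E.apply_symm_apply x, hker⟩

end residue

section tensor

/-- The only idempotents of `K ⊗ R` are trivial if `R` has residue field `k`. -/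
theorem idem_tensor_trivial {k K R : Type u} [Field k] [Field K] [Algebra k K] [Ring R] [Algebra k R]
    (N : Ideal R) {l : ℕ} (hl : ∀ L : List R, l ≤ L.length → (∀ x ∈ L, x ∈ N) → L.prod = 0)
    (χ : R →ₐ[k] k) (hχ : ∀ x, χ x = 0 → x ∈ N)
    (e : K ⊗[k] R) (he : IsIdempotentElem e) : e = 0 ∨ e = 1 := by
  classical
  let ψ : K ⊗[k] R →ₐ[k] K := Algebra.TensorProduct.lift (AlgHom.id k K) ((Algebra.ofId k K).comp χ)
    (fun a _ => Commute.all a _)
  suffices H : ∀ e : K ⊗[k] R, IsIdempotentElem e → ψ e = 0 → e = 0 by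
    rcases IsIdempotentElem.iff_eq_zero_or_one.1 (he.map ψ) with h | h
    · exact Or.inl (H e he h)
    · exact Or.inr (sub_eq_zero.1 (H _ he.one_sub (by rw [map_sub, map_one, h, sub_self]))).symm
  intro e he h0
  let S : ℕ → AddSubmonoid (K ⊗[k] R) := fun j =>
    AddSubmonoid.closure {z | ∃ (a : K) (L : List R), L.length = j ∧ (∀ x ∈ L, x ∈ N) ∧ z = a ⊗ₜ L.prod}
  let b := Module.Basis.ofVectorSpace k K
  have h1 : e ∈ S 1 := by
    obtain ⟨c, rfl⟩ := (TensorProduct.equivFinsuppOfBasisLeft b (N := R)).symm.surjective e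
    have hsum : (TensorProduct.equivFinsuppOfBasisLeft b (N := R)).symm c = c.sum fun i r => b i ⊗ₜ[k] r := by
      rw [TensorProduct.equivFinsuppOfBasisLeft_symm_apply]
    rw [hsum]
    have h0' : ∀ i, χ (c i) = 0 := fun i => by
      rw [hsum, map_finsuppSum] at h0
      have h2 : Finsupp.linearCombination k b (c.mapRange χ (map_zero χ)) = 0 := by
        rw [Finsupp.linearCombination_apply, Finsupp.sum_mapRange_index (h := fun i a => a • b i) (fun i => zero_smul k (b i))]
        refine Eq.trans (Finsupp.sum_congr fun j _ => ?_) h0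
        show _ = (Algebra.TensorProduct.lift (AlgHom.id k K) ((Algebra.ofId k K).comp χ) fun a _ => Commute.all a _) (b j ⊗ₜ c j)
        refine Eq.trans ?_ (Algebra.TensorProduct.lift_tmul _ _ _ _ _).symm
        rw [Algebra.smul_def, mul_comm]
        rfl
      exact DFunLike.congr_fun (linearIndependent_iff.1 b.linearIndependent _ h2) i
    refine AddSubmonoid.sum_mem _ fun i _ =>
      AddSubmonoid.subset_closure ⟨b i, [c i], rfl, by simpa using hχ _ (h0' i), by simp⟩
  have hmul : ∀ i j, ∀ x ∈ S i, ∀ y ∈ S j, x * y ∈ S (i + j) := by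
    intro i j x hx y hy
    induction hx using AddSubmonoid.closure_induction with
    | zero => rw [zero_mul]; exact zero_mem _
    | add a c _ _ ha hc => rw [add_mul]; exact add_mem ha hc
    | mem x hx =>
      obtain ⟨a, L, hLl, hL, rfl⟩ := hx
      induction hy using AddSubmonoid.closure_induction with
      | zero => rw [mul_zero]; exact zero_mem _
      | add u v _ _ hu hv => rw [mul_add]; exact add_mem hu hv
      | mem y hy =>
        obtain ⟨c, L', hL'l, hL', rfl⟩ := hy
        refine AddSubmonoid.subset_closure ⟨a * c, L ++ L', by rw [List.length_append, hLl, hL'l],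
          fun x hx => (List.mem_append.1 hx).elim (hL x) (hL' x), ?_⟩
        rw [List.prod_append, Algebra.TensorProduct.tmul_mul_tmul]
  have hj : ∀ j, e ∈ S (j + 1) := fun j => by
    induction j with
    | zero => exact h1
    | succ j ih => exact he.eq ▸ hmul _ _ _ ih _ h1
  have hl' : S (l + 1) ≤ ⊥ := AddSubmonoid.closure_le.2 (by
    rintro z ⟨a, L, hLl, hL, rfl⟩
    rw [hl L (by omega) hL, TensorProduct.tmul_zero]
    rfl)
  exact AddSubmonoid.mem_bot.1 (hl' (hj l))

/-- Long products of nilpotent elements vanish. -/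
theorem prod_eq_zero {R : Type u} [Ring R] [Nontrivial R] [Finite R] (h : ∀ x : R, IsUnit x ∨ IsNilpotent x)
    (L : List R) (hlen : Nat.card R ≤ L.length) (hL : ∀ x ∈ L, x ∈ nilIdeal h) : L.prod = 0 := by
  haveI := Fintype.ofFinite R
  obtain ⟨i, j, hij, heq⟩ := Fintype.exists_ne_map_eq_of_card_lt
    (fun i : Fin (L.length + 1) => (L.take i).prod) (by rw [Fintype.card_fin, ← Nat.card_eq_fintype_card]; omega)
  wlog hlt : (i : ℕ) < j generalizing i j with H
  · exact H j i hij.symm heq.symm (by omega)
  obtain ⟨m, hm⟩ : ∃ m, (j : ℕ) = i + (m + 1) := ⟨j - i - 1, by omega⟩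
  have hsplit : (L.take j).prod = (L.take i).prod * ((L.drop i).take (m + 1)).prod := by
    rw [hm, List.take_add, List.prod_append]
  have hmem : ∀ L' : List R, L' ≠ [] → (∀ x ∈ L', x ∈ nilIdeal h) → L'.prod ∈ nilIdeal h := fun L' => by
    induction L' with
    | nil => exact fun h0 => absurd rfl h0
    | cons x L' ih =>
      intro _ hx
      rw [List.prod_cons]
      rcases eq_or_ne L' [] with rfl | hne
      · simpa using hx x (by simp)
      · exact (nilIdeal h).mul_mem_left x (ih hne fun y hy => hx y (by simp [hy]))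
  have hn : IsNilpotent ((L.drop i).take (m + 1)).prod := hmem _ (fun h0 => by
      have := congrArg List.length h0
      rw [List.length_take, List.length_drop, List.length_nil] at this
      have := j.isLt
      omega) fun x hx => hL x (List.mem_of_mem_drop (List.mem_of_mem_take hx))
  have h0 : (L.take i).prod = 0 := by
    obtain ⟨u, hu⟩ := hn.isUnit_one_sub
    have hz : (L.take i).prod * (u : R) = 0 := by
      rw [hu, mul_sub, mul_one, ← hsplit]
      exact sub_eq_zero.2 heq
    exact (Units.mul_left_eq_zero u).1 hz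
  rw [← L.take_append_drop i, List.prod_append, h0, zero_mul]

end tensor

section galois

variable (k K : Type u) [Field k] [Field K] [Algebra k K] [FiniteDimensional k K] [IsGalois k K]

/-- `a ⊗ b ↦ (a * g b)_g`. -/
noncomputable def galHom : K ⊗[k] K →ₐ[K] ((K ≃ₐ[k] K) → K) :=
  Algebra.TensorProduct.lift (Algebra.ofId K _) (AlgHom.mk'
    { toFun := fun b g => g b, map_one' := funext fun g => map_one g, map_mul' := fun a b => funext fun g => map_mul g a b,
      map_zero' := funext fun g => map_zero g, map_add' := fun a b => funext fun g => map_add g a b }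
    fun c b => funext fun g => map_smul g c b) fun _ _ => Commute.all _ _

theorem galHom_tmul (a b : K) (g : K ≃ₐ[k] K) : galHom k K (a ⊗ₜ b) g = a * g b := by
  simp [galHom, Algebra.ofId_apply]

theorem galHom_bijective : Function.Bijective (galHom k K) := by
  classical
  have hdim : Module.finrank K (K ⊗[k] K) = Module.finrank K ((K ≃ₐ[k] K) → K) := by
    rw [Module.finrank_baseChange, Module.finrank_pi, ← Nat.card_eq_fintype_card, IsGalois.card_aut_eq_finrank]
  have hsurj : Function.Surjective (galHom k K) := by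
    rw [← AlgHom.coe_toLinearMap, ← LinearMap.range_eq_top]
    by_contra hne
    obtain ⟨φ, hφ0, hφ⟩ := Submodule.exists_le_ker_of_lt_top _ (lt_top_iff_ne_top.2 hne)
    have hli := linearIndependent_monoidHom K K
    have hzero : ∀ g : K ≃ₐ[k] K, φ (Pi.single g 1) = 0 := by
      let f : (K ≃ₐ[k] K) → (K →* K) := fun g => (g : K →* K)
      have hf : Function.Injective f := fun g g' hgg => AlgEquiv.ext fun x => DFunLike.congr_fun hgg x
      refine Fintype.linearIndependent_iff.1 (hli.comp f hf) (fun g => φ (Pi.single g 1)) (funext fun b => ?_)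
      have hb : φ (galHom k K (1 ⊗ₜ b)) = 0 := hφ ⟨1 ⊗ₜ b, rfl⟩
      rw [pi_eq_sum_univ' (galHom k K (1 ⊗ₜ b)), map_sum] at hb
      simp only [map_smul, galHom_tmul, one_mul, smul_eq_mul] at hb
      rw [Finset.sum_apply, Pi.zero_apply, ← hb]
      exact Finset.sum_congr rfl fun g _ => mul_comm _ _
    refine hφ0 (LinearMap.ext fun x => ?_)
    rw [pi_eq_sum_univ' x, map_sum]
    simp [map_smul, hzero]
  exact ⟨(LinearMap.injective_iff_surjective_of_finrank_eq_finrank (f := (galHom k K).toLinearMap) hdim).2 hsurj, hsurj⟩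

/-- The splitting idempotents. -/
theorem exists_idem : ∃ e : (K ≃ₐ[k] K) → K ⊗[k] K, CompleteOrthogonalIdempotents e ∧ (∀ g, e g ≠ 0) ∧
    ∀ g (b : K), e g * (1 ⊗ₜ b) = e g * (g b ⊗ₜ 1) := by
  classical
  let E := AlgEquiv.ofBijective (galHom k K) (galHom_bijective k K)
  refine ⟨fun g => E.symm (Pi.single g 1), ?_, fun g h => ?_, fun g b => E.injective ?_⟩
  · exact (CompleteOrthogonalIdempotents.single fun _ : K ≃ₐ[k] K => K).map E.symm.toRingEquiv.toRingHom
  · have h' := congrFun (congrArg E h) g
    rw [E.apply_symm_apply, Pi.single_eq_same, map_zero] at h'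
    exact one_ne_zero h'
  · rw [map_mul, map_mul, E.apply_symm_apply]
    funext i
    by_cases hi : i = g
    · subst hi
      show _ * galHom k K (1 ⊗ₜ b) i = _ * galHom k K (i b ⊗ₜ 1) i
      simp [galHom_tmul]
    · simp [Pi.single_eq_of_ne hi]

end galois

end Groth.Agent.GaloisSplit17
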