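import Groth.Agent.Lib.GaloisSplit17.Curve
import Groth.Agent.Lib.AutCard17.Curve
import Groth.Agent.Lib.AmpleFin18.PushEuler
import Groth.Agent.Lib.CurveCoh17.GenusBC
import Groth.Agent.Lib.CurveLocus.GeomFibre
import Groth.Prelude.Def_CurvBase

/-!
# Genus one: endomorphisms of indecomposable, geometrically decomposable bundles of prime rank
-/

set_option autoImplicit false
set_option linter.style.haveILetI false
set_option linter.unusedSectionVars false
set_option backward.isDefEq.respectTransparency false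
set_option backward.isDefEq.respectTransparency.types false
set_option maxHeartbeats 800000

universe u

open CategoryTheory CategoryTheory.Limits AlgebraicGeometry TensorProduct

noncomputable section

namespace Groth.Agent.GaloisSplit17

open Groth.Agent Groth.Agent.KS29 W4c1astiltbs12

attribute [local instance] Abelian.hasFiniteBiproducts

/-- An indecomposable module is not a power with at least two members. -/
theorem not_dec_power {C : Type*} [Category C] [Abelian C] {E Λ : C} (hi : Indec E) {r : ℕ} (hr : 2 ≤ r)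
    (d : Dec E fun _ : Fin r => Λ) : False := by
  have hΛ : ¬ IsZero Λ := fun h => by
    refine hi.1 ((IsZero.iff_id_eq_zero E).2 ?_)
    rw [← d.total]
    exact Finset.sum_eq_zero fun i _ => by rw [h.eq_of_tgt (d.prj i) 0, zero_comp]
  obtain ⟨i, j, hij⟩ : ∃ i j : Fin r, i ≠ j := ⟨⟨0, by omega⟩, ⟨1, by omega⟩, by simp [Fin.ext_iff]⟩
  have hidem : (d.prj i ≫ d.inj i) ≫ d.prj i ≫ d.inj i = d.prj i ≫ d.inj i := by
    rw [Category.assoc, ← Category.assoc (d.inj i), d.inj_prj, Category.id_comp]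
  rcases hi.idem _ hidem with h | h
  · refine hΛ ((IsZero.iff_id_eq_zero Λ).2 ?_)
    have := congrArg (fun φ => d.inj i ≫ φ ≫ d.prj i) h
    simpa [reassoc_of% (d.inj_prj i), d.inj_prj i] using this
  · refine hΛ ((IsZero.iff_id_eq_zero Λ).2 ?_)
    have := congrArg (fun φ => d.inj j ≫ φ ≫ d.prj j) h
    simp only [Category.id_comp, d.inj_prj j] at this
    rw [← this, ← Category.assoc, ← Category.assoc, d.inj_prj_ne hij.symm]
    simp

variable {k : Type u} [Field k] [Finite k] {X : Scheme.{u}} [X.Over (Spec (CommRingCat.of k))]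
  [IsProper (X ↘ Spec (CommRingCat.of k))] [Smooth (X ↘ Spec (CommRingCat.of k))]
  [GeometricallyIntegral (X ↘ Spec (CommRingCat.of k))] (K : Type u) [Field K] [Algebra k K]
  [FiniteDimensional k K]

local instance overBC : (Curv2.bc k X K).Over (Spec (CommRingCat.of K)) := ⟨Curv2.bcSnd k X K⟩
local instance : IsProper (Curv2.bc k X K ↘ Spec (CommRingCat.of K)) :=
  MorphismProperty.pullback_snd _ _ ‹IsProper (X ↘ Spec (CommRingCat.of k))›
local instance : Smooth (Curv2.bc k X K ↘ Spec (CommRingCat.of K)) :=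
  MorphismProperty.pullback_snd _ _ ‹Smooth (X ↘ Spec (CommRingCat.of k))›
local instance : GeometricallyIntegral (Curv2.bc k X K ↘ Spec (CommRingCat.of K)) :=
  MorphismProperty.pullback_snd _ _ ‹GeometricallyIntegral (X ↘ Spec (CommRingCat.of k))›

theorem regCurve_bc (hdim : topologicalKrullDim ↥X = 1) : VB17.RegCurve K (Curv2.bc k X K) := by
  haveI : IsIntegral (Curv2.bc k X K) :=
    GeometricallyIntegral.isIntegral_of_subsingleton (Curv2.bc k X K ↘ Spec (CommRingCat.of K))
  exact VB17.regCurve' ((CurveLocus.topologicalKrullDim_bc (X ↘ Spec (CommRingCat.of k))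
    (IsPullback.of_hasPullback _ _)).trans hdim)

theorem euler_structure (hdim : topologicalKrullDim ↥X = 1) (hg : Curv2.genus k X = 1) :
    Curv2.euler k X (Coh.structureModule X) = 0 ∧
      Curv2.euler K (Curv2.bc k X K) (Coh.structureModule (Curv2.bc k X K)) = 0 := by
  haveI : IsIntegral X := GeometricallyIntegral.isIntegral_of_subsingleton (X ↘ Spec (CommRingCat.of k))
  haveI : GeometricallyConnected (X ↘ Spec (CommRingCat.of k)) := by
    rw [GeometricallyConnected.eq_geometrically]
    intro L _ y Y p₁ p₂ hP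
    haveI := (GeometricallyIntegral.geometrically_isIntegral (f := X ↘ Spec (CommRingCat.of k))) y p₁ p₂ hP
    infer_instance
  haveI : CompactSpace X := QuasiCompact.compactSpace_of_compactSpace (X ↘ Spec (CommRingCat.of k))
  haveI : QuasiSeparatedSpace X := by
    haveI := KS29.isLocallyNoetherian_of (X ↘ Spec (CommRingCat.of k))
    infer_instance
  have h0 : Curv2.euler k X (Coh.structureModule X) = 0 := by
    rw [(VB17.regCurve' hdim : VB17.RegCurve k X).like.euler_structureModule, Groth.Agent.S1536.result k X, hg]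
    norm_num
  refine ⟨h0, ?_⟩
  rw [← h0]
  exact finsum_congr fun n => by rw [CurveCoh17.finrank_HH_bc (k := k) (X := X) K n]

/-- The Euler characteristic of a summand. -/
theorem euler_summand {M : (Curv2.bc k X K).Modules} (hM : PicF.IsInvertible M) {E : X.Modules}
    (e : (Scheme.Modules.pushforward (Curv2.bcFst k X K)).obj M ≅ E) :
    Curv2.euler k X E = (Module.finrank k K : ℤ) * Curv2.euler K (Curv2.bc k X K) M := by
  haveI : IsAffineHom (Curv2.bcFst k X K) := MorphismProperty.pullback_fst _ _ inferInstance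
  letI ov : (Curv2.bc k X K).Over (Spec (CommRingCat.of k)) := ⟨Curv2.bcFst k X K ≫ (X ↘ Spec (CommRingCat.of k))⟩
  rw [← CurveCoh17.euler_iso e,
    AmpleFin18.euler_push (Curv2.bcFst k X K) rfl M (CurveCoh17.isCoh_of_ofRank ((M2.isInvertible_iff_isFinLocFreeOfRank_one M).1 hM)).1]
  unfold Curv2.euler
  rw [mul_finsum]
  · refine finsum_congr fun n => ?_
    haveI : IsScalarTower k K (Coh.HH (Curv2.bc k X K) M n) := IsScalarTower.of_algebraMap_smul fun c x => by
      show Coh.toGlobal (Curv2.bcSnd k X K) (algebraMap k K c) • x =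
        Coh.toGlobal (Curv2.bcFst k X K ≫ (X ↘ Spec (CommRingCat.of k))) c • x
      congr 1
      show (Curv2.bcSnd k X K).appTop _ = (Curv2.bcFst k X K ≫ (X ↘ Spec (CommRingCat.of k))).appTop _
      rw [pullback.condition, Scheme.Hom.comp_appTop, CommRingCat.comp_apply]
      exact congrArg _ (ConcreteCategory.congr_hom
        (Scheme.ΓSpecIso_inv_naturality (CommRingCat.ofHom (algebraMap k K))) c)
    rw [← Module.finrank_mul_finrank k K (Coh.HH (Curv2.bc k X K) M n)]
    push_cast
    ring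

variable {K}

section main

variable (hdim : topologicalKrullDim ↥X = 1) (hg : Curv2.genus k X = 1)
  (O : Spec (CommRingCat.of k) ⟶ X) (hO : O ≫ (X ↘ Spec (CommRingCat.of k)) = 𝟙 _)
  {E : X.Modules} {r : ℕ} (hr : r.Prime) (hE : FlatMod.IsFinLocFreeOfRank r E) (hi : Indec E)
  {K' : Type u} [Field K'] [Algebra k K'] (E₁ E₂ : (Curv2.bc k X K').Modules)
  (h₁ : ¬ IsZero E₁) (h₂ : ¬ IsZero E₂)
  (e : (Scheme.Modules.pullback (Curv2.bcFst k X K')).obj E ≅ E₁ ⊞ E₂)
  (hK : Module.finrank k K = r) [IsGalois k K]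

include hdim hg hO hr hE hi h₁ h₂ e hK

/-- Splitting over the extension. -/
theorem exists_lines :
    ∃ (ι : K →ₐ[k] EndA (X ↘ Spec (CommRingCat.of k)) E) (χ : EndA (X ↘ Spec (CommRingCat.of k)) E →ₐ[k] K)
      (σ : Fin r ≃ (K ≃ₐ[k] K)) (M : Fin r → (Curv2.bc k X K).Modules)
      (_d : Dec (bcMod (X ↘ Spec (CommRingCat.of k)) K E) M),
      (∀ x, χ (ι x) = x) ∧ (∀ i, PicF.IsInvertible (M i)) ∧ (∀ i j, i ≠ j → ¬ Nonempty (M i ≅ M j)) ∧
      (∀ i, Curv2.euler k X E = (r : ℤ) * Curv2.euler K (Curv2.bc k X K) (M i)) ∧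
      (∀ (i : Fin r) (Λ : X.Modules), PicF.IsInvertible Λ →
        ¬ Nonempty (M i ≅ (Scheme.Modules.pullback (Curv2.bcFst k X K)).obj Λ)) ∧
      ∀ i, M i = summand ι (σ i) := by
  classical
  haveI : Finite K := Module.finite_of_finite k
  have hEc : Coh.IsCoh E := CurveCoh17.isCoh_of_ofRank hE
  haveI : CompactSpace X := QuasiCompact.compactSpace_of_compactSpace (X ↘ Spec (CommRingCat.of k))
  obtain ⟨ι, χ, hι, -⟩ := exists_field_endA (X ↘ Spec (CommRingCat.of k)) O hO hr hE hi E₁ E₂ h₁ h₂ e K hK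
  have hιi : Function.Injective ι := fun a b h => by rw [← hι a, ← hι b, h]
  let σ : Fin r ≃ (K ≃ₐ[k] K) :=
    (Finite.equivFinOfCardEq ((IsGalois.card_aut_eq_finrank k K).trans hK)).symm
  let d := decGalois ι σ
  haveI : IsIntegral (Curv2.bc k X K) :=
    GeometricallyIntegral.isIntegral_of_subsingleton (Curv2.bc k X K ↘ Spec (CommRingCat.of K))
  have hinv : ∀ i, PicF.IsInvertible (summand ι (σ i)) := fun i =>
    isInvertible_of_dec (M2.isFinLocFreeOfRank_pullback (proj (X ↘ Spec (CommRingCat.of k)) K) hE) d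
      (fun j => summand_not_isZero ι hEc.1 hιi _) i
  have hpush : ∀ i, Nonempty ((Scheme.Modules.pushforward (proj (X ↘ Spec (CommRingCat.of k)) K)).obj
      (summand ι (σ i)) ≅ E) := fun i => by
    subst hK
    exact push_summand_iso hEc hi d (fun j => summand_not_isZero ι hEc.1 hιi _) i
  refine ⟨ι, χ, σ, fun i => summand ι (σ i), d, hι, hinv, fun i j hij =>
    not_nonempty_iff.2 (summand_not_iso ι hEc χ hι (σ.injective.ne hij)), fun i => ?_, ?_, fun i => rfl⟩
  · obtain ⟨f⟩ := hpush i
    exact (euler_summand K (hinv i) f).trans (by rw [hK])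
  · rintro i Λ hΛ ⟨u⟩
    obtain ⟨f⟩ := hpush i
    haveI := (CurveCoh17.isCoh_of_ofRank ((M2.isInvertible_iff_isFinLocFreeOfRank_one Λ).1 hΛ)).1
    obtain ⟨dΛ⟩ := exists_dec_push (K := K) (p := X ↘ Spec (CommRingCat.of k)) Λ
    subst hK
    exact not_dec_power hi hr.two_le
      (dΛ.trans ((Scheme.Modules.pushforward (proj (X ↘ Spec (CommRingCat.of k)) K)).mapIso u.symm ≪≫ f))

/-- The endomorphisms are the extension field. -/
theorem nonempty_end_equiv : ∃ ι : K →ₐ[k] EndA (X ↘ Spec (CommRingCat.of k)) E, Function.Bijective ι := by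
  classical
  have hEc : Coh.IsCoh E := CurveCoh17.isCoh_of_ofRank hE
  haveI : CompactSpace X := QuasiCompact.compactSpace_of_compactSpace (X ↘ Spec (CommRingCat.of k))
  haveI : Finite K := Module.finite_of_finite k
  obtain ⟨ι, χ, σ, M, -, hι, hinv, hne, heul, -, hM⟩ := exists_lines hdim hg O hO hr hE hi E₁ E₂ h₁ h₂ e hK
  obtain rfl : M = fun i => summand ι (σ i) := funext hM
  let p := X ↘ Spec (CommRingCat.of k)
  let d := decGalois ι σ
  have hX := regCurve_bc (k := k) (X := X) K hdim
  refine ⟨ι, fun a b h => by rw [← hι a, ← hι b, h], fun a => ⟨χ a, ?_⟩⟩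
  have hoff : ∀ i j, i ≠ j → ∀ f : summand ι (σ i) ⟶ summand ι (σ j), f = 0 := fun i j hij =>
    AutCard17.hom_eq_zero hX (hinv i) (hinv j) (by
      rw [Curv2.deg, Curv2.deg]
      have h := (heul i).symm.trans (heul j)
      rw [mul_left_cancel₀ (by exact_mod_cast hr.pos.ne') h]) (hne i j hij)
  have hdiag : ∀ i, ∃ c : K, d.inj i ≫ bcT p (a : E ⟶ E) (1 : K) ≫ d.prj i = sc p K _ c := fun i =>
    exists_sc_of_isInvertible p (hinv i) _
  choose c hc using hdiag
  let z : K ⊗[k] K := ∑ i, (c i ⊗ₜ[k] (1 : K)) * (exists_idem k K).choose (σ i)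
  have hz : Phi p K E (1 ⊗ₜ a) = Psi ι z := by
    rw [map_sum, Phi_tmul]
    have hterm : ∀ i, Psi ι ((c i ⊗ₜ[k] (1 : K)) * (exists_idem k K).choose (σ i)) =
        (show EndK p K E from idem ι (σ i) ≫ sc p K _ (c i)) := fun i => by
      rw [map_mul]
      have h1 : Psi ι (c i ⊗ₜ[k] 1) = (show EndK p K E from sc p K (bcMod p K E) (c i)) := by
        refine (Phi_tmul p K E (c i) (ι 1)).trans ?_
        rw [map_one]
        show (Scheme.Modules.pullback (proj p K)).map (𝟙 E) ≫ sc p K _ (c i) = _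
        rw [CategoryTheory.Functor.map_id, Category.id_comp]
      rw [h1]
      rfl
    refine Eq.trans ?_ (Finset.sum_congr rfl fun i _ => hterm i).symm
    show bcT p (a : E ⟶ E) (1 : K) = ∑ i, idem ι (σ i) ≫ sc p K _ (c i)
    calc bcT p (a : E ⟶ E) (1 : K)
        = (∑ i, d.prj i ≫ d.inj i) ≫ bcT p (a : E ⟶ E) (1 : K) ≫ (∑ j, d.prj j ≫ d.inj j) := by
          rw [d.total, Category.id_comp, Category.comp_id]
      _ = ∑ i, d.prj i ≫ (d.inj i ≫ bcT p (a : E ⟶ E) (1 : K) ≫ d.prj i) ≫ d.inj i := by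
          rw [Preadditive.sum_comp]
          refine Finset.sum_congr rfl fun i _ => ?_
          simp only [Preadditive.comp_sum, Category.assoc]
          refine (Finset.sum_eq_single i (fun j _ hji => ?_) fun h => absurd (Finset.mem_univ _) h)
          have := hoff i j hji.symm (d.inj i ≫ bcT p (a : E ⟶ E) (1 : K) ≫ d.prj j)
          rw [reassoc_of% this, zero_comp, comp_zero]
      _ = _ := by
          refine Finset.sum_congr rfl fun i _ => ?_
          rw [hc, ← comp_sc, ← Category.assoc, show d.prj i ≫ d.inj i = idem ι (σ i) from sprj_sinj ι _]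
  let J : K ⊗[k] K →ₐ[K] K ⊗[k] EndA p E := Algebra.TensorProduct.map (AlgHom.id K K) ι
  let T : K ⊗[k] EndA p E →ₐ[K] K ⊗[k] K := Algebra.TensorProduct.map (AlgHom.id K K) χ
  have hTJ : ∀ x, T (J x) = x := fun x => by
    induction x using TensorProduct.induction_on with
    | zero => simp
    | tmul a b => exact congrArg (fun z => a ⊗ₜ[k] z) (hι b)
    | add x y hx hy => simp [hx, hy]
  have hJ : (1 : K) ⊗ₜ[k] a = J z := Phi_injective p K E hEc.1 hz
  have hT : (1 : K) ⊗ₜ[k] χ a = z := by
    rw [← hTJ z, ← hJ]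
    exact (Algebra.TensorProduct.map_tmul (AlgHom.id K K) χ (1 : K) a).symm
  have : (1 : K) ⊗ₜ[k] a = (1 : K) ⊗ₜ[k] ι (χ a) := by
    rw [hJ, ← hT]
    exact Algebra.TensorProduct.map_tmul (AlgHom.id K K) ι (1 : K) (χ a)
  exact ((Algebra.TensorProduct.includeRight_injective (A := K) (B := EndA p E)
    (algebraMap k K).injective) this).symm

end main

end Groth.Agent.GaloisSplit17
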