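import Groth.Agent.Lib.KS29.SBEnd
import Groth.Agent.Lib.KS29.Simple
import Groth.Agent.Lib.GaloisSplit17.Alg

/-!
# Decomposing the base change of a module whose endomorphism algebra contains the field
-/

set_option autoImplicit false
set_option linter.style.haveILetI false
set_option linter.unusedSectionVars false
set_option backward.isDefEq.respectTransparency false
set_option backward.isDefEq.respectTransparency.types false
set_option maxHeartbeats 800000

universe u

open CategoryTheory CategoryTheory.Limits AlgebraicGeometry TensorProduct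

noncomputable section

namespace Groth.Agent.GaloisSplit17

open Groth.Agent Groth.Agent.KS29 W4c1astiltbs12

attribute [local instance] Abelian.hasFiniteBiproducts

variable {k : Type u} [Field k] {X : Scheme.{u}} (p : X ⟶ Spec (CommRingCat.of k))
  (K : Type u) [Field K] [Algebra k K] (E : X.Modules)

/-- The endomorphism algebra of the base change. -/
def EndK : Type u := End (bcMod p K E)

instance : Ring (EndK p K E) := inferInstanceAs (Ring (End (bcMod p K E)))

theorem scHom_commute (a : K) (x : EndK p K E) : Commute (show EndK p K E from scHom p (bcMod p K E) a) x :=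
  comp_sc p (x : bcMod p K E ⟶ bcMod p K E) a

instance instAlgK : Algebra K (EndK p K E) :=
  RingHom.toAlgebra' (scHom p (bcMod p K E)) fun a x => (scHom_commute p K E a x).eq

instance instAlgk : Algebra k (EndK p K E) :=
  RingHom.toAlgebra' ((scHom p (bcMod p K E)).comp (algebraMap k K)) fun a x =>
    (scHom_commute p K E (algebraMap k K a) x).eq

instance : IsScalarTower k K (EndK p K E) := IsScalarTower.of_algebraMap_eq fun _ => rfl

/-- Base change of endomorphisms. -/
def bcAlg : EndA p E →ₐ[k] EndK p K E where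
  toRingHom := bcEnd (K := K) p E
  commutes' c := pullback_map_sck (K := K) p E c

/-- The comparison. -/
def Phi : K ⊗[k] EndA p E →ₐ[K] EndK p K E :=
  Algebra.TensorProduct.lift (Algebra.ofId K _) (bcAlg p K E) fun a x => Algebra.commutes a _

theorem Phi_tmul (a : K) (g : EndA p E) :
    Phi p K E (a ⊗ₜ g) = (show EndK p K E from bcT p (g : E ⟶ E) a) :=
  Algebra.TensorProduct.lift_tmul _ _ _ a g

theorem Phi_injective (hE : Coh.IsQCoh E) : Function.Injective (Phi p K E) := by
  classical
  refine (injective_iff_map_eq_zero _).2 fun x hx => ?_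
  obtain ⟨S, rfl⟩ := TensorProduct.exists_finset x
  have h0 : ∑ s ∈ S, bcT p (s.2 : E ⟶ E) s.1 = ∑ s ∈ (∅ : Finset (Fin 0)), bcT p (𝟙 E) ((s : ℕ) : K) := by
    rw [Finset.sum_empty]
    refine Eq.trans ?_ hx
    rw [map_sum]
    exact Finset.sum_congr rfl fun s _ => (Phi_tmul p K E s.1 s.2).symm
  let b := Module.Basis.ofVectorSpace k K
  refine (TensorProduct.equivFinsuppOfBasisLeft b : K ⊗[k] EndA p E ≃ₗ[k] _).injective ?_
  ext i
  rw [map_sum, map_zero, Finsupp.finsetSum_apply]
  have h1 := comb_congr p hE _ _ _ _ _ _ h0 (b.coord i)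
  rw [Finset.sum_empty] at h1
  refine Eq.trans (Finset.sum_congr rfl fun s _ => ?_) h1
  rw [TensorProduct.equivFinsuppOfBasisLeft_apply_tmul_apply]
  exact smul_endA p E _ _

theorem Phi_surjective [CompactSpace X] (hE : Coh.IsCoh E) : Function.Surjective (Phi p K E) := fun ψ => by
  obtain ⟨n, g, a, hψ⟩ := exists_comb p hE hE.1 (ψ : bcMod p K E ⟶ bcMod p K E)
  refine ⟨∑ s, a s ⊗ₜ[k] (show EndA p E from g s), ?_⟩
  rw [map_sum]
  exact (Finset.sum_congr rfl fun s _ => Phi_tmul p K E (a s) (g s)).trans hψ.symm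

theorem finite_endA [IsProper p] [Finite k] (hE : Coh.IsCoh E) : Finite (EndA p E) := by
  letI : X.Over (Spec (CommRingCat.of k)) := ⟨p⟩
  haveI : IsProper (X ↘ Spec (CommRingCat.of k)) := ‹IsProper p›
  haveI := finite_hom (k := k) hE hE
  exact (Module.finite_of_finite k : Finite (E ⟶ E))

/-- An indecomposable module whose endomorphisms have residue field `k` stays indecomposable. -/
theorem residue_ne_base [IsProper p] [Finite k] (hE : Coh.IsCoh E) (hi : Indec E)
    (χ : EndA p E →ₐ[k] k) (hχ : ∀ x, χ x = 0 → IsNilpotent x)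
    (E₁ E₂ : (W4bk4gw11416.baseChange p K).Modules) (h₁ : ¬ IsZero E₁) (h₂ : ¬ IsZero E₂)
    (e : bcMod p K E ≅ E₁ ⊞ E₂) : False := by
  classical
  haveI : CompactSpace X := QuasiCompact.compactSpace_of_compactSpace p
  haveI := finite_endA p E hE
  letI : X.Over (Spec (CommRingCat.of k)) := ⟨p⟩
  haveI : IsProper (X ↘ Spec (CommRingCat.of k)) := ‹IsProper p›
  haveI := finite_hom (k := k) hE hE
  haveI : Nontrivial (EndA p E) := nontrivial_of_ne (1 : EndA p E) 0 fun h => hi.1 ((IsZero.iff_id_eq_zero E).2 h)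
  have hu : ∀ x : EndA p E, IsUnit x ∨ IsNilpotent x := fun x => hi.isUnit_or_isNilpotent k x
  let P : EndK p K E := e.hom ≫ biprod.fst ≫ biprod.inl ≫ e.inv
  obtain ⟨t, ht⟩ := Phi_surjective p K E hE P
  have hP : IsIdempotentElem P := by
    show (e.hom ≫ biprod.fst ≫ biprod.inl ≫ e.inv) ≫ e.hom ≫ biprod.fst ≫ biprod.inl ≫ e.inv = _
    simp
    rfl
  have ht' : IsIdempotentElem t := Phi_injective p K E hE.1 (by rw [map_mul, ht]; exact hP)
  rcases idem_tensor_trivial (nilIdeal hu) (l := Nat.card (EndA p E)) (fun L hL hLN => prod_eq_zero hu L hL hLN)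
    χ hχ t ht' with rfl | rfl
  · refine h₁ ((IsZero.iff_id_eq_zero _).2 ?_)
    have : P = 0 := ht.symm.trans (map_zero _)
    have h' : biprod.inl ≫ e.inv ≫ (P : bcMod p K E ⟶ bcMod p K E) ≫ e.hom ≫ biprod.fst = 0 := by
      rw [this]
      show biprod.inl ≫ e.inv ≫ (0 : bcMod p K E ⟶ bcMod p K E) ≫ e.hom ≫ biprod.fst = 0
      simp
    simpa [P] using h'
  · refine h₂ ((IsZero.iff_id_eq_zero _).2 ?_)
    have : P = 1 := ht.symm.trans (map_one _)
    have h' : biprod.inr ≫ e.inv ≫ (P : bcMod p K E ⟶ bcMod p K E) ≫ e.hom ≫ biprod.snd = 𝟙 E₂ := by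
      rw [this]
      show biprod.inr ≫ e.inv ≫ (𝟙 (bcMod p K E)) ≫ e.hom ≫ biprod.snd = _
      simp
    simpa [P] using h'.symm

variable {p K E}

section split

variable [FiniteDimensional k K] [IsGalois k K] (ι : K →ₐ[k] EndA p E)

/-- The idempotents upstairs. -/
def Psi : K ⊗[k] K →ₐ[K] EndK p K E :=
  (Phi p K E).comp (Algebra.TensorProduct.map (AlgHom.id K K) ι)

theorem Psi_injective (hE : Coh.IsQCoh E) (hι : Function.Injective ι) : Function.Injective (Psi ι) :=
  (Phi_injective p K E hE).comp (Module.Flat.lTensor_preserves_injective_linearMap ι.toLinearMap hι)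

/-- The chosen idempotents. -/
def idem (g : K ≃ₐ[k] K) : bcMod p K E ⟶ bcMod p K E := Psi ι ((exists_idem k K).choose g)

theorem idem_orth : CompleteOrthogonalIdempotents fun g => (show EndK p K E from idem ι g) :=
  (exists_idem k K).choose_spec.1.map (Psi ι).toRingHom

theorem idem_idem (g : K ≃ₐ[k] K) : idem ι g ≫ idem ι g = idem ι g := (idem_orth ι).idem g

theorem idem_ne (hE : Coh.IsQCoh E) (hι : Function.Injective ι) (g : K ≃ₐ[k] K) : idem ι g ≠ 0 := fun h =>
  (exists_idem k K).choose_spec.2.1 g (Psi_injective ι hE hι (h.trans (map_zero (Psi ι)).symm))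

/-- The summands. -/
def summand (g : K ≃ₐ[k] K) : (W4bk4gw11416.baseChange p K).Modules := kernel (𝟙 (bcMod p K E) - idem ι g)

theorem prj_aux (g : K ≃ₐ[k] K) : idem ι g ≫ (𝟙 (bcMod p K E) - idem ι g) = 0 := by
  rw [Preadditive.comp_sub, Category.comp_id, idem_idem, sub_self]

/-- Inclusion. -/
def sinj (g : K ≃ₐ[k] K) : summand ι g ⟶ bcMod p K E := kernel.ι _
/-- Projection. -/
def sprj (g : K ≃ₐ[k] K) : bcMod p K E ⟶ summand ι g := kernel.lift _ (idem ι g) (prj_aux ι g)

theorem sprj_sinj (g : K ≃ₐ[k] K) : sprj ι g ≫ sinj ι g = idem ι g := kernel.lift_ι _ _ _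

theorem sinj_idem (g : K ≃ₐ[k] K) : sinj ι g ≫ idem ι g = sinj ι g := by
  have h : sinj ι g ≫ (𝟙 (bcMod p K E) - idem ι g) = 0 := kernel.condition _
  rw [Preadditive.comp_sub, Category.comp_id] at h
  exact (sub_eq_zero.1 h).symm

instance (g : K ≃ₐ[k] K) : Mono (sinj ι g) := inferInstanceAs (Mono (kernel.ι _))

theorem sinj_sprj (g : K ≃ₐ[k] K) : sinj ι g ≫ sprj ι g = 𝟙 _ :=
  (cancel_mono (sinj ι g)).1 (by rw [Category.assoc, sprj_sinj, sinj_idem, Category.id_comp])

theorem sinj_sprj_ne {g h : K ≃ₐ[k] K} (hne : g ≠ h) : sinj ι g ≫ sprj ι h = 0 :=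
  (cancel_mono (sinj ι h)).1 (by
    rw [Category.assoc, sprj_sinj, zero_comp, ← sinj_idem, Category.assoc,
      show idem ι g ≫ idem ι h = 0 from (idem_orth ι).ortho hne.symm, comp_zero])

theorem idem_total : ∑ g, idem ι g = 𝟙 (bcMod p K E) := (idem_orth ι).complete

/-- The decomposition. -/
def decGalois {n : ℕ} (σ : Fin n ≃ (K ≃ₐ[k] K)) : Dec (bcMod p K E) fun i => summand ι (σ i) where
  inj i := sinj ι (σ i)
  prj i := sprj ι (σ i)
  inj_prj i := sinj_sprj ι _
  inj_prj_ne {i j} h := sinj_sprj_ne ι (σ.injective.ne h)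
  total := by
    simp only [sprj_sinj]
    rw [Equiv.sum_comp σ (idem ι), idem_total]

theorem summand_not_isZero (hE : Coh.IsQCoh E) (hι : Function.Injective ι) (g : K ≃ₐ[k] K) :
    ¬ IsZero (summand ι g) := fun h => idem_ne ι hE hι g (by rw [← sprj_sinj, h.eq_of_tgt (sprj ι g) 0, zero_comp])

/-- On a summand the field acts through its conjugate. -/
theorem idem_scalar (g : K ≃ₐ[k] K) (b : K) :
    (idem ι g ≫ (Scheme.Modules.pullback (proj p K)).map (ι b : E ⟶ E)) =
      idem ι g ≫ sc p K (bcMod p K E) (g b) := by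
  have h := congrArg (Psi ι) ((mul_comm _ _).trans (((exists_idem k K).choose_spec.2.2 g b).trans (mul_comm _ _)))
  rw [map_mul, map_mul] at h
  have h1 : Psi ι (1 ⊗ₜ b) = (show EndK p K E from (Scheme.Modules.pullback (proj p K)).map (ι b : E ⟶ E)) := by
    refine (Phi_tmul p K E 1 (ι b)).trans ?_
    show (Scheme.Modules.pullback (proj p K)).map _ ≫ sc p K _ 1 = _
    rw [sc_one, Category.comp_id]
  have h2 : Psi ι (g b ⊗ₜ 1) = (show EndK p K E from sc p K (bcMod p K E) (g b)) := by
    refine (Phi_tmul p K E (g b) (ι 1)).trans ?_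
    rw [map_one]
    show (Scheme.Modules.pullback (proj p K)).map (𝟙 E) ≫ sc p K _ (g b) = _
    rw [CategoryTheory.Functor.map_id, Category.id_comp]
  rw [h1, h2] at h

  exact h

/-- Different summands are not isomorphic if the field is the residue field. -/
theorem summand_not_iso [CompactSpace X] (hE : Coh.IsCoh E) (χ : EndA p E →ₐ[k] K) (hχ : ∀ x, χ (ι x) = x)
    {g h : K ≃ₐ[k] K} (hne : g ≠ h) : IsEmpty (summand ι g ≅ summand ι h) := by
  refine ⟨fun u => ?_⟩
  let A : EndK p K E := sprj ι g ≫ u.hom ≫ sinj ι h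
  let B : EndK p K E := sprj ι h ≫ u.inv ≫ sinj ι g
  have hBA : B * A = (show EndK p K E from idem ι g) := by
    show (sprj ι g ≫ u.hom ≫ sinj ι h) ≫ sprj ι h ≫ u.inv ≫ sinj ι g = idem ι g
    simp [reassoc_of% (sinj_sprj ι h), sprj_sinj]
  have hAB : A * B = (show EndK p K E from idem ι h) := by
    show (sprj ι h ≫ u.inv ≫ sinj ι g) ≫ sprj ι g ≫ u.hom ≫ sinj ι h = idem ι h
    simp [reassoc_of% (sinj_sprj ι g), sprj_sinj]
  obtain ⟨a, ha⟩ := Phi_surjective p K E hE A
  obtain ⟨b, hb⟩ := Phi_surjective p K E hE B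
  let T : K ⊗[k] EndA p E →ₐ[K] K ⊗[k] K := Algebra.TensorProduct.map (AlgHom.id K K) χ
  let J : K ⊗[k] K →ₐ[K] K ⊗[k] EndA p E := Algebra.TensorProduct.map (AlgHom.id K K) ι
  have hTJ : ∀ x, T (J x) = x := fun x => by
    induction x using TensorProduct.induction_on with
    | zero => simp
    | tmul a b => simp [T, J, hχ]
    | add x y hx hy => simp [hx, hy]
  have hg : b * a = J ((exists_idem k K).choose g) := Phi_injective p K E hE.1 (by rw [map_mul, ha, hb, hBA]; rfl)
  have hh : a * b = J ((exists_idem k K).choose h) := Phi_injective p K E hE.1 (by rw [map_mul, ha, hb, hAB]; rfl)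
  have heq : (exists_idem k K).choose g = (exists_idem k K).choose h := by
    rw [← hTJ ((exists_idem k K).choose g), ← hg, ← hTJ ((exists_idem k K).choose h), ← hh, map_mul, map_mul, mul_comm]
  have horth : (exists_idem k K).choose g * (exists_idem k K).choose h = 0 :=
    (exists_idem k K).choose_spec.1.ortho hne
  rw [heq, ((exists_idem k K).choose_spec.1.idem h).eq] at horth
  exact (exists_idem k K).choose_spec.2.1 h horth

end split

end Groth.Agent.GaloisSplit17
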