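import Groth.Agent.Lib.GaloisSplit17.Basic
import Groth.Agent.Lib.GrpField.Smooth
import Groth.Agent.Lib.CurveCoh17.Bases
import Groth.Agent.Lib.CurveCoh17.Integral
import Groth.Agent.Lib.CurveCoh17.P1Apps
import Groth.Agent.Lib.TensorMod.Summand
import Mathlib.FieldTheory.Finite.GaloisField

/-!
# Indecomposable, geometrically decomposable modules of prime rank over finite fields
-/

set_option autoImplicit false
set_option linter.style.haveILetI false
set_option linter.unusedSectionVars false
set_option backward.isDefEq.respectTransparency false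
set_option backward.isDefEq.respectTransparency.types false
set_option maxHeartbeats 800000

universe u

open CategoryTheory CategoryTheory.Limits AlgebraicGeometry TensorProduct

noncomputable section

namespace Groth.Agent.GaloisSplit17

open Groth.Agent Groth.Agent.KS29 W4c1astiltbs12

attribute [local instance] Abelian.hasFiniteBiproducts

variable {k : Type u} [Field k] {X : Scheme.{u}} (p : X ⟶ Spec (CommRingCat.of k))

/-- The action of endomorphisms on a free stalk, reduced. -/
def fibreHom (E : X.Modules) (x : X) {r : ℕ}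
    (e : E.presheaf.stalk x ≃ₗ[X.presheaf.stalk x] (Fin r → X.presheaf.stalk x)) :
    EndA p E →+* Matrix (Fin r) (Fin r) (X.residueField x) :=
  (X.residue x).hom.mapMatrix.comp (LinearMap.toMatrixAlgEquiv'.toRingEquiv.toRingHom.comp
    { toFun := fun g => e.toLinearMap ∘ₗ CurveCoh17.stalkLin (g : E ⟶ E) x ∘ₗ e.symm.toLinearMap
      map_one' := LinearMap.ext fun v => by
        show e (CurveCoh17.stalkLin (𝟙 E) x (e.symm v)) = v
        rw [CurveCoh17.stalkLin_id', e.apply_symm_apply]
      map_mul' := fun g h => LinearMap.ext fun v => by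
        show e (CurveCoh17.stalkLin ((h : E ⟶ E) ≫ g) x (e.symm v)) =
          e (CurveCoh17.stalkLin (g : E ⟶ E) x (e.symm (e (CurveCoh17.stalkLin (h : E ⟶ E) x (e.symm v)))))
        rw [CurveCoh17.stalkLin_comp, e.symm_apply_apply]
      map_zero' := LinearMap.ext fun v => by
        show e ((M1.stalkAb x).map (0 : E ⟶ E) (e.symm v)) = 0
        rw [Functor.map_zero]
        exact map_zero e
      map_add' := fun g h => LinearMap.ext fun v => by
        show e ((M1.stalkAb x).map ((g : E ⟶ E) + h) (e.symm v)) =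
          e ((M1.stalkAb x).map (g : E ⟶ E) (e.symm v)) + e ((M1.stalkAb x).map (h : E ⟶ E) (e.symm v))
        rw [Functor.map_add, ← map_add e]
        rfl })

/-- A field of degree `m` in the endomorphisms forces `m` to divide the rank. -/
theorem finrank_dvd_rank [Finite k] (O : Spec (CommRingCat.of k) ⟶ X) (hO : O ≫ p = 𝟙 _) {E : X.Modules} {r : ℕ}
    (hE : FlatMod.IsFinLocFreeOfRank r E) {L : Type u} [Field L] [Algebra k L] [FiniteDimensional k L]
    (ι : L →ₐ[k] EndA p E) : Module.finrank k L ∣ r := by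
  obtain ⟨e⟩ := CurveCoh17.nonempty_stalk_equiv hE (O (IsLocalRing.closedPoint k))
  let x : X := O (IsLocalRing.closedPoint k)
  have hκ : Nat.card (X.residueField x) = Nat.card k :=
    (Nat.card_congr (Equiv.ofBijective _ (GrpField.bijective_residue_of_section p O hO))).symm
  let ψ : L →+* Module.End (X.residueField x) (Fin r → X.residueField x) :=
    Matrix.toLinAlgEquiv'.toRingEquiv.toRingHom.comp ((fibreHom p E x e).comp ι.toRingHom)
  letI : Module L (Fin r → X.residueField x) := Module.compHom _ ψ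
  haveI : Finite (X.residueField x) := Nat.finite_of_card_ne_zero (by rw [hκ]; exact Nat.card_pos.ne')
  haveI : Module.Finite L (Fin r → X.residueField x) := Module.Finite.of_finite
  have h1 := Module.natCard_eq_pow_finrank (K := L) (V := Fin r → X.residueField x)
  rw [Module.natCard_eq_pow_finrank (K := k) (V := L), Nat.card_fun, hκ, Nat.card_fin, ← pow_mul] at h1
  exact Dvd.intro _ (Nat.pow_right_injective Finite.one_lt_card h1).symm

/-- The residue field of the endomorphisms is the extension of degree the rank. -/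
theorem exists_field_endA [IsProper p] [Finite k] (O : Spec (CommRingCat.of k) ⟶ X) (hO : O ≫ p = 𝟙 _)
    {E : X.Modules} {r : ℕ} (hr : r.Prime) (hE : FlatMod.IsFinLocFreeOfRank r E) (hi : Indec E)
    {K' : Type u} [Field K'] [Algebra k K'] (E₁ E₂ : (W4bk4gw11416.baseChange p K').Modules)
    (h₁ : ¬ IsZero E₁) (h₂ : ¬ IsZero E₂) (e : bcMod p K' E ≅ E₁ ⊞ E₂)
    (K : Type u) [Field K] [Algebra k K] (hK : Module.finrank k K = r) :
    ∃ (ι : K →ₐ[k] EndA p E) (χ : EndA p E →ₐ[k] K), (∀ x, χ (ι x) = x) ∧ ∀ x, χ x = 0 → IsNilpotent x := by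
  classical
  have hEc : Coh.IsCoh E := CurveCoh17.isCoh_of_ofRank hE
  haveI := finite_endA p E hEc
  letI : X.Over (Spec (CommRingCat.of k)) := ⟨p⟩
  haveI : IsProper (X ↘ Spec (CommRingCat.of k)) := ‹IsProper p›
  haveI := finite_hom (k := k) hEc hEc
  haveI : Nontrivial (EndA p E) := nontrivial_of_ne (1 : EndA p E) 0 fun h => hi.1 ((IsZero.iff_id_eq_zero E).2 h)
  have hu : ∀ x : EndA p E, IsUnit x ∨ IsNilpotent x := fun x => hi.isUnit_or_isNilpotent k x
  haveI : Module.Finite k (EndA p E) := Module.Finite.of_finite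
  obtain ⟨L, _, _, ι, χ, hι, hχ⟩ := exists_residue k hu
  haveI : Finite L := Finite.of_injective ι fun a b h => by rw [← hι a, ← hι b, h]
  haveI : FiniteDimensional k L := Module.Finite.of_finite
  haveI : Module.Finite k K := Module.finite_of_finrank_pos (hK ▸ hr.pos)
  haveI : Finite K := Module.finite_of_finite k
  have hne : Module.finrank k L ≠ 1 := fun h1 => by
    have hbij : Function.Bijective (Algebra.ofId k L) := ⟨(algebraMap k L).injective, fun y => by
      obtain ⟨c, hc⟩ := (finrank_eq_one_iff_of_nonzero' (1 : L) one_ne_zero).1 h1 y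
      exact ⟨c, (Algebra.algebraMap_eq_smul_one c).trans hc⟩⟩
    refine residue_ne_base p K' E hEc hi ((AlgEquiv.ofBijective _ hbij).symm.toAlgHom.comp χ)
      (fun x hx => hχ x ?_) E₁ E₂ h₁ h₂ e
    exact (AlgEquiv.ofBijective _ hbij).symm.injective (hx.trans (map_zero _).symm)
  have hL : Module.finrank k L = r :=
    (hr.eq_one_or_self_of_dvd _ (finrank_dvd_rank p O hO hE ι)).resolve_left hne
  obtain ⟨f⟩ := FiniteField.nonempty_algHom_of_finrank_dvd (F := k) (K := K) (L := L) (by rw [hK, hL])
  have hf : Function.Bijective f :=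
    ⟨f.injective, (LinearMap.injective_iff_surjective_of_finrank_eq_finrank (f := f.toLinearMap)
      (hK.trans hL.symm)).1 f.injective⟩
  let F := AlgEquiv.ofBijective f hf
  refine ⟨ι.comp F.toAlgHom, F.symm.toAlgHom.comp χ, fun x => ?_, fun x hx => hχ x ?_⟩
  · show F.symm (χ (ι (F x))) = x
    rw [hι, F.symm_apply_apply]
  · exact F.symm.injective (hx.trans (map_zero _).symm)

variable {p}

/-- Summands of a decomposition with as many members as the rank are invertible. -/
theorem isInvertible_of_dec {Y : Scheme.{u}} [IsIntegral Y] {V : Y.Modules} {r : ℕ}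
    (hV : FlatMod.IsFinLocFreeOfRank r V) {F : Fin r → Y.Modules} (d : Dec V F)
    (h0 : ∀ i, ¬ IsZero (F i)) (i : Fin r) : PicF.IsInvertible (F i) := by
  classical
  let η := genericPoint Y
  have hflf : ∀ i, ∃ n, FlatMod.IsFinLocFreeOfRank n (F i) := fun i =>
    VB17.exists_rank_of_isFinLocFree'
      (M2.isFinLocFree_of_retract (M2.isFinLocFree_of_ofRank hV) _ _ (d.inj_prj i))
  choose n hn using hflf
  have hpos : ∀ i, 1 ≤ n i := fun i => by
    rcases Nat.eq_zero_or_pos (n i) with h | h
    · exact absurd (VB17.isZero_of_rank_zero (h ▸ hn i)) (h0 i)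
    · exact h
  let R := Y.presheaf.stalk η
  let S : ∀ (A : Y.Modules), Type u := fun A => A.presheaf.stalk η
  let P : V.presheaf.stalk η →ₗ[R] ∀ i, (F i).presheaf.stalk η :=
    LinearMap.pi fun i => CurveCoh17.stalkLin (d.prj i) η
  let I : (∀ i, (F i).presheaf.stalk η) →ₗ[R] V.presheaf.stalk η :=
    ∑ i, CurveCoh17.stalkLin (d.inj i) η ∘ₗ LinearMap.proj i
  have hIP : ∀ v, I (P v) = v := fun v => by
    simp only [I, P, LinearMap.sum_apply, LinearMap.comp_apply, LinearMap.proj_apply, LinearMap.pi_apply]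
    let A : (V ⟶ V) →+ V.presheaf.stalk η :=
      AddMonoidHom.mk' (fun φ => CurveCoh17.stalkLin φ η v) fun f g => by
        show (M1.stalkAb η).map (f + g) v = (M1.stalkAb η).map f v + (M1.stalkAb η).map g v
        rw [Functor.map_add]
        rfl
    have hA : A (∑ j, d.prj j ≫ d.inj j) = v := by
      rw [d.total]
      exact CurveCoh17.stalkLin_id' η v
    rw [map_sum] at hA
    exact (Finset.sum_congr rfl fun j _ => (CurveCoh17.stalkLin_comp _ _ _ _).symm).trans hA
  have hPI : ∀ w, P (I w) = w := fun w => funext fun j => by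
    simp only [I, P, LinearMap.sum_apply, LinearMap.comp_apply, LinearMap.proj_apply, LinearMap.pi_apply, map_sum]
    rw [Finset.sum_eq_single j]
    · rw [← CurveCoh17.stalkLin_comp, d.inj_prj, CurveCoh17.stalkLin_id']
    · intro b _ hb
      rw [← CurveCoh17.stalkLin_comp, d.inj_prj_ne hb]
      show (M1.stalkAb η).map (0 : F b ⟶ F j) (w b) = 0
      rw [Functor.map_zero]
      rfl
    · exact fun h => absurd (Finset.mem_univ _) h
  let eqv : V.presheaf.stalk η ≃ₗ[R] ∀ i, (F i).presheaf.stalk η :=
    LinearEquiv.ofLinearMap P I (LinearMap.ext hPI) (LinearMap.ext hIP)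
  have eF := fun i => (CurveCoh17.nonempty_stalk_equiv (hn i) η).some
  obtain ⟨eV⟩ := CurveCoh17.nonempty_stalk_equiv hV η
  have hsum : r = ∑ i, n i := by
    have := (eV.symm.trans (eqv.trans (LinearEquiv.piCongrRight eF))).finrank_eq
    rw [Module.finrank_fin_fun, Module.finrank_pi_fintype] at this
    simpa only [Module.finrank_fin_fun] using this
  have hone : n i = 1 := by
    by_contra h
    have h2 : ∑ _j : Fin r, 1 < ∑ j, n j :=
      Finset.sum_lt_sum (fun j _ => hpos j) ⟨i, Finset.mem_univ _, by have := hpos i; omega⟩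
    simp at h2
    omega
  exact (M2.isInvertible_iff_isFinLocFreeOfRank_one _).2 (hone ▸ hn i)

section push

variable {K : Type u} [Field K] [Algebra k K] [FiniteDimensional k K]

/-- Pushing forward a base change gives a power. -/
theorem exists_dec_push (E : X.Modules) [Coh.IsQCoh E] :
    Nonempty (Dec ((Scheme.Modules.pushforward (proj p K)).obj (bcMod p K E))
      fun _ : Fin (Module.finrank k K) => E) := by
  let b := (Module.finBasis k K).reindex Equiv.ulift.{u}.symm
  haveI := CohFound.isIso_basisDesc_spec (W4bk4gw11416.baseChangeTo p K) (proj p K) (isPullback_bc p) E b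
  exact ⟨Dec.ofCoproduct.trans ((Sigma.whiskerEquiv (f := fun _ : Fin (Module.finrank k K) => E)
    (g := fun _ : ULift.{u} (Fin (Module.finrank k K)) => E) Equiv.ulift.symm fun _ => Iso.refl E) ≪≫
    asIso (CohFound.basisDesc (W4bk4gw11416.baseChangeTo p K) (proj p K) E (bG b)))⟩

/-- The pushforward of each summand is the module itself. -/
theorem push_summand_iso [IsProper p] {E : X.Modules} (hE : Coh.IsCoh E) (hi : Indec E)
    {F : Fin (Module.finrank k K) → (W4bk4gw11416.baseChange p K).Modules} (d : Dec (bcMod p K E) F)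
    (h0 : ∀ i, ¬ IsZero (F i)) (i : Fin (Module.finrank k K)) :
    Nonempty ((Scheme.Modules.pushforward (proj p K)).obj (F i) ≅ E) := by
  classical
  haveI := hE.1
  haveI := CohFound.isNoetherian_of_isProper p
  let P := Scheme.Modules.pushforward (proj p K)
  haveI : P.Additive := (Scheme.Modules.pullbackPushforwardAdjunction (proj p K)).right_adjoint_additive
  obtain ⟨dE⟩ := exists_dec_push (K := K) (p := p) E
  have hP : Coh.IsCoh (P.obj (bcMod p K E)) :=
    CohFound.isCoh_of_iso dE.isoCoproduct.symm (CohGab13.isCoh_sigma hE _)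
  let dF := d.map P
  choose n G hG dG using fun j => coh_exists_dec p (dF.isCoh hP j)
  have hn : ∀ j, 0 < n j := fun j => by
    rcases Nat.eq_zero_or_pos (n j) with h | h
    · haveI : IsEmpty (Fin (n j)) := by rw [h]; infer_instance
      have hz : IsZero (P.obj (F j)) := (dG j).some.isZero
      refine absurd ((IsZero.iff_id_eq_zero _).2 ?_) (h0 j)
      have hprj : d.prj j = 0 := by
        refine ((Scheme.Modules.pullbackPushforwardAdjunction (proj p K)).homEquiv _ _).injective ?_
        exact hz.eq_of_tgt _ _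
      rw [← d.inj_prj j, hprj, comp_zero]
    · exact h
  obtain ⟨σ, hσ⟩ := coh_dec_unique p hP (dF.bind fun j => (dG j).some) dE (fun x => hG x.1 x.2) fun _ => hi
  have hcard : ∑ j, n j = Module.finrank k K := by
    have := Fintype.card_congr σ
    simpa [Fintype.card_sigma] using this
  have h1 : n i = 1 := by
    by_contra h
    have h2 : ∑ _j : Fin (Module.finrank k K), 1 < ∑ j, n j :=
      Finset.sum_lt_sum (fun j _ => hn j) ⟨i, Finset.mem_univ _, by have := hn i; omega⟩
    simp at h2
    omega
  obtain ⟨e⟩ : Nonempty (G i ⟨0, hn i⟩ ≅ E) := hσ ⟨i, ⟨0, hn i⟩⟩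
  let D := (dG i).some
  letI : Unique (Fin (n i)) := { default := ⟨0, hn i⟩, uniq := fun x => Fin.ext (by have := x.2; omega) }
  exact ⟨D.isoBiproduct ≪≫ biproductUniqueIso _ ≪≫ e⟩

end push

variable (p)

/-- The main structure theorem. -/
theorem exists_split [IsProper p] [Finite k] [GeometricallyIntegral p]
    (O : Spec (CommRingCat.of k) ⟶ X) (hO : O ≫ p = 𝟙 _)
    {E : X.Modules} {r : ℕ} (hr : r.Prime) (hE : FlatMod.IsFinLocFreeOfRank r E) (hi : Indec E)
    {K' : Type u} [Field K'] [Algebra k K'] (E₁ E₂ : (W4bk4gw11416.baseChange p K').Modules)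
    (h₁ : ¬ IsZero E₁) (h₂ : ¬ IsZero E₂) (e : bcMod p K' E ≅ E₁ ⊞ E₂)
    (K : Type u) [Field K] [Algebra k K] (hK : Module.finrank k K = r) :
    ∃ (M : Fin r → (W4bk4gw11416.baseChange p K).Modules) (d : Dec (bcMod p K E) M)
      (ι : K →ₐ[k] EndA p E) (σ : Fin r → (K ≃ₐ[k] K)),
      (∀ i, PicF.IsInvertible (M i)) ∧
      (∀ i j, i ≠ j → ¬ Nonempty (M i ≅ M j)) ∧
      (∀ i, Nonempty ((Scheme.Modules.pushforward (proj p K)).obj (M i) ≅ E)) ∧
      (∀ i (b : K), d.prj i ≫ d.inj i ≫ (Scheme.Modules.pullback (proj p K)).map (ι b : E ⟶ E) =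
        d.prj i ≫ d.inj i ≫ sc p K (bcMod p K E) (σ i b)) ∧ Function.Bijective σ := by
  classical
  haveI : Module.Finite k K := Module.finite_of_finrank_pos (hK ▸ hr.pos)
  haveI : Finite K := Module.finite_of_finite k
  have hEc : Coh.IsCoh E := CurveCoh17.isCoh_of_ofRank hE
  haveI : CompactSpace X := QuasiCompact.compactSpace_of_compactSpace p
  obtain ⟨ι, χ, hι, -⟩ := exists_field_endA p O hO hr hE hi E₁ E₂ h₁ h₂ e K hK
  have hιi : Function.Injective ι := fun a b h => by rw [← hι a, ← hι b, h]
  let σ : Fin r ≃ (K ≃ₐ[k] K) :=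
    (Finite.equivFinOfCardEq ((IsGalois.card_aut_eq_finrank k K).trans hK)).symm
  let d := decGalois ι σ
  haveI : IsIntegral (W4bk4gw11416.baseChange p K) :=
    GeometricallyIntegral.geometrically_isIntegral (f := p) _ _ _ (isPullback_bc (K := K) p).flip
  refine ⟨_, d, ι, σ, fun i => ?_, fun i j hij => ?_, fun i => ?_, fun i b => ?_, σ.bijective⟩
  · exact isInvertible_of_dec (M2.isFinLocFreeOfRank_pullback (proj p K) hE) d
      (fun j => summand_not_isZero ι hEc.1 hιi _) i
  · exact not_nonempty_iff.2 (summand_not_iso ι hEc χ hι (σ.injective.ne hij))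
  · subst hK
    exact push_summand_iso hEc hi d (fun j => summand_not_isZero ι hEc.1 hιi _) i
  · show sprj ι _ ≫ sinj ι _ ≫ _ = sprj ι _ ≫ sinj ι _ ≫ _
    rw [← Category.assoc, ← Category.assoc, sprj_sinj]
    exact idem_scalar ι _ b

end Groth.Agent.GaloisSplit17
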